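import Cfsg.Agent.SelfNormNonab.Basic
import Cfsg.Agent.AbelianInvCent.Final
import Cfsg.Agent.Classical.PSLTwoSub
import Cfsg.Agent.SL2C.ClassProducts

/-!
# Self-normalising nonabelian subgroups in the two-dimensional linear groups
-/

set_option autoImplicit false

namespace CfsgLib.SelfNormNonab

open Subgroup CfsgLib.Dickson

section Forward

variable {G : Type*} [Group G] [Finite G] [IsSimpleGroup G]

theorem card_sylow_two {F : Type*} [Field F] [Finite F] [CharP F 2] {f : ℕ} (hq : Nat.card F = 2 ^ f)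
    [Fact (Nat.Prime 2)] (P : Sylow 2 (PSL2 F)) :
    Nat.card (P : Subgroup (PSL2 F)) = 2 ^ f := by
  classical
  obtain ⟨k, hk⟩ := IsPGroup.iff_card.1 P.2
  have h1 : 2 ^ f ∣ Nat.card (PSL2 F) := by
    rw [CfsgLib.Linear.PSLTwo.card_eq, hq]
    exact Dvd.dvd.mul_left (Dvd.dvd.mul_right dvd_rfl _) _
  have h2 := P.pow_dvd_card_of_pow_dvd_card h1
  have h3 := card_dvd_of_le (le_normalizer : (P : Subgroup (PSL2 F)) ≤ normalizer ((P : Subgroup (PSL2 F)) : Set (PSL2 F)))
  rw [CfsgLib.Linear.PSLTwo.card_normalizer, hk] at h3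
  have hf : f ≠ 0 := by
    intro h
    have := Finite.one_lt_card (α := F)
    rw [hq, h, pow_zero] at this
    omega
  rw [CfsgLib.Linear.PSLTwo.gcd_eq_one (by rw [hq]; exact (even_two : Even 2).pow_of_ne_zero hf), Nat.div_one, hq] at h3
  have hev := Nat.dvd_of_mem_primeFactors (p := 2) (n := 2 ^ f) (by simp [hf, Nat.prime_two])
  refine Nat.dvd_antisymm (hk ▸ (Nat.Coprime.dvd_of_dvd_mul_right ?_ h3)) h2
  refine Nat.Coprime.pow_left k (Nat.coprime_two_left.2 ?_)
  obtain ⟨j, hj⟩ := (even_two : Even 2).pow_of_ne_zero (n := f) hf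
  have : 0 < 2 ^ f := Nat.two_pow_pos f
  exact ⟨j - 1, by omega⟩

theorem prime_pred (hyp : SelfNorm G) (hG : ¬ IsMulCommutative G) {F : Type*} [Field F] [Finite F] {f : ℕ}
    (hf : 2 ≤ f) (hq : Nat.card F = 2 ^ f) [CharP F 2] (e : G ≃* PSL2 F) : (2 ^ f - 1).Prime := by
  classical
  haveI : Fact (Nat.Prime 2) := ⟨Nat.prime_two⟩
  have h4 : 4 ≤ 2 ^ f := le_trans (by norm_num) (Nat.pow_le_pow_right two_pos hf)
  by_contra hnp
  set r := (2 ^ f - 1).minFac
  have hr : r.Prime := Nat.minFac_prime (by omega)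
  have hrd : r ∣ 2 ^ f - 1 := Nat.minFac_dvd _
  have hrlt : r < 2 ^ f - 1 := lt_of_le_of_ne (Nat.le_of_dvd (by omega) hrd) fun h => hnp (h ▸ hr)
  haveI := Fact.mk hr
  obtain ⟨P⟩ : Nonempty (Sylow 2 G) := inferInstance
  set B := normalizer ((P : Subgroup G) : Set G)
  have hes : Function.Surjective e.toMonoidHom := e.surjective
  set Pe := P.mapSurjective hes
  have hPcard : Nat.card (P : Subgroup G) = 2 ^ f := by
    rw [← card_sylow_two hq Pe, Sylow.coe_mapSurjective]
    exact (card_map_of_injective (f := e.toMonoidHom) e.injective).symm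
  have hBcard : Nat.card B = 2 ^ f * (2 ^ f - 1) := by
    have h := CfsgLib.Linear.PSLTwo.card_normalizer (p := 2) Pe
    rw [CfsgLib.Linear.PSLTwo.gcd_eq_one (by rw [hq]; exact (even_two : Even 2).pow_of_ne_zero (by omega)), Nat.div_one, hq,
      Sylow.coe_mapSurjective, ← map_equiv_normalizer_eq (P : Subgroup G) e,
      card_map_of_injective (f := e.toMonoidHom) e.injective] at h
    exact h
  set PB := (P : Subgroup G).subgroupOf B
  haveI : PB.Normal := (normal_subgroupOf_iff_le_normalizer le_normalizer).2 le_rfl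
  have hPB : Nat.card PB = 2 ^ f := (Nat.card_congr (subgroupOfEquivOfLe le_normalizer).toEquiv).trans hPcard
  have hidx : PB.index = 2 ^ f - 1 := by
    have h := PB.card_mul_index
    rw [hPB, hBcard] at h
    exact Nat.eq_of_mul_eq_mul_left (by omega) h
  have hodd : Odd (2 ^ f - 1) := by
    obtain ⟨j, hj⟩ := (even_two : Even 2).pow_of_ne_zero (n := f) (by omega)
    exact ⟨j - 1, by omega⟩
  obtain ⟨H0, hH0⟩ := exists_right_complement'_of_coprime (N := PB) (by
    rw [hPB, hidx]; exact Nat.Coprime.pow_left f (Nat.coprime_two_left.2 hodd))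
  set H := H0.map B.subtype
  have hHB : H ≤ B := map_subtype_le _
  have hH0c : Nat.card H0 = 2 ^ f - 1 := hH0.symm.index_eq_card.symm.trans hidx
  have hHc : Nat.card H = 2 ^ f - 1 := (card_map_of_injective B.subtype_injective).trans hH0c
  have hBgen : B ≤ (P : Subgroup G) ⊔ H := fun b hb => by
    have h1 : (⟨b, hb⟩ : B) ∈ PB ⊔ H0 := hH0.sup_eq_top ▸ mem_top _
    have h2 := mem_map_of_mem B.subtype h1
    rw [Subgroup.map_sup, map_subgroupOf_eq_of_le le_normalizer] at h2
    exact h2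
  have hPH : ∀ a ∈ (P : Subgroup G), a ∈ H → a = 1 := by
    rintro _ ha ⟨y, hy, rfl⟩
    have h : y ∈ PB ⊓ H0 := ⟨mem_subgroupOf.2 ha, hy⟩
    rw [hH0.disjoint.eq_bot, mem_bot] at h
    rw [h]; rfl
  haveI : IsCyclic H := by
    have hne : H.map e.toMonoidHom ≠ ⊤ := fun h => by
      have h1 : Nat.card (H.map e.toMonoidHom) = Nat.card (PSL2 F) := by rw [h, Subgroup.card_top]
      rw [card_map_of_injective (f := e.toMonoidHom) e.injective, hHc, ← Nat.card_congr e.toEquiv] at h1
      have := card_le_card_group B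
      rw [hBcard, ← h1] at this
      have : 4 * (2 ^ f - 1) ≤ 2 ^ f * (2 ^ f - 1) := Nat.mul_le_mul_right _ h4
      omega
    haveI := AbelianInvCent.isCyclic_of_odd (H.map e.toMonoidHom) hne (by
      rw [card_map_of_injective (f := e.toMonoidHom) e.injective, hHc]; exact hodd)
    exact (equivMapOfInjective H e.toMonoidHom e.injective).isCyclic.2 inferInstance
  have hHcomm : ∀ a ∈ H, ∀ b ∈ H, Commute a b := fun a ha b hb => by
    letI := IsCyclic.commGroup (α := H)
    exact congrArg Subtype.val (mul_comm (⟨a, ha⟩ : H) ⟨b, hb⟩)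
  obtain ⟨c, hc⟩ := exists_prime_orderOf_dvd_card' (G := H) r (hHc ▸ hrd)
  have hc' : orderOf (c : G) = r := by rwa [Subgroup.orderOf_coe]
  set K := (P : Subgroup G) ⊔ zpowers (c : G)
  have hKB : K ≤ B := sup_le le_normalizer (zpowers_le.2 (hHB c.2))
  have hBK : B ≤ normalizer (K : Set G) := by
    refine hBgen.trans (sup_le (le_sup_left.trans le_normalizer) fun a ha => ?_)
    refine mem_normalizer_iff_map_conj_eq.2 (eq_of_le_of_card_ge ?_
      (card_map_of_injective (f := (MulAut.conj a).toMonoidHom) (MulAut.conj a).injective).ge)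
    rw [Subgroup.map_sup, MonoidHom.map_zpowers]
    refine sup_le ((le_of_eq (mem_normalizer_iff_map_conj_eq.1 (hHB ha))).trans le_sup_left) (zpowers_le.2 ?_)
    show a * c * a⁻¹ ∈ K
    rw [(hHcomm a ha c c.2).eq, mul_inv_cancel_right]
    exact mem_sup_right (mem_zpowers _)
  have hne : K ≠ B := fun h => by
    have hle : H ≤ zpowers (c : G) := fun a ha => by
      have ha' : a ∈ K := h ▸ hHB ha
      rw [← SetLike.mem_coe, coe_mul_of_right_le_normalizer_left _ _ (zpowers_le.2 (hHB c.2))] at ha'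
      obtain ⟨y, hy, w, hw, hyw⟩ := ha'
      have hyH : y ∈ H := by
        rw [eq_mul_inv_of_mul_eq hyw]
        exact mul_mem ha (inv_mem (zpowers_le.2 c.2 hw))
      rw [← hyw, show y = 1 from hPH y hy hyH]
      simpa using hw
    have := card_le_of_le hle
    rw [hHc, Nat.card_zpowers, hc'] at this
    omega
  haveI := comm_of_normal hyp hKB hBK hne
  haveI hCc := centralizer_comm_prime hyp hG hc'
  have hBC : B ≤ centralizer ({(c : G)} : Set G) :=
    hBgen.trans (sup_le (fun a ha => mem_centralizer_singleton_iff.2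
      (commute_of_mem (K := K) (mem_sup_left ha) (mem_sup_right (mem_zpowers _))).eq)
      fun a ha => mem_centralizer_singleton_iff.2 (hHcomm a ha c c.2).eq)
  refine not_le_centralizer (p := 2) hG ?_ P fun b hb => mem_centralizer_iff.2 fun a ha =>
    (commute_of_mem (hBC (le_normalizer ha)) (hBC hb)).eq
  exact (hPcard ▸ dvd_pow_self 2 (by omega : f ≠ 0)).trans (card_subgroup_dvd_card _)

end Forward

section Converse

variable {F : Type*} [Field F] [Finite F] [CharP F 2]

theorem psl_ct {a b c : PSL2 F} (hb : b ≠ 1) (hab : Commute a b) (hbc : Commute b c) : Commute a c := by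
  classical
  haveI := Fintype.ofFinite F
  obtain ⟨X, rfl⟩ := CfsgLib.SL2C.pm_surjective a
  obtain ⟨Y, rfl⟩ := CfsgLib.SL2C.pm_surjective b
  obtain ⟨Z, rfl⟩ := CfsgLib.SL2C.pm_surjective c
  have hinj := CfsgLib.SL2C.pm_injective (F := F)
  have hYc : Y ∉ Subgroup.center (CfsgLib.SL2C.SL F) := fun h => hb (CfsgLib.SL2C.pm_eq_one_iff.2 h)
  have h1 : Y * X = X * Y := hinj (by rw [map_mul, map_mul]; exact hab.eq.symm)
  have h2 : Y * Z = Z * Y := hinj (by rw [map_mul, map_mul]; exact hbc.eq)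
  show CfsgLib.SL2C.pm X * CfsgLib.SL2C.pm Z = CfsgLib.SL2C.pm Z * CfsgLib.SL2C.pm X
  rw [← map_mul, ← map_mul, CfsgLib.SL2C.commute_of_commute hYc h1 h2]

theorem dihedral_top {k : ℕ} (hk : Odd k) (Y : Subgroup (DihedralGroup k)) [Y.Normal]
    (hY : ¬ IsMulCommutative Y) : Y = ⊤ := by
  haveI : NeZero k := ⟨by rintro rfl; exact absurd hk (by decide)⟩
  obtain ⟨i, hi⟩ : ∃ i, DihedralGroup.sr i ∈ Y := by
    by_contra h
    push Not at h
    refine hY ⟨⟨fun a b => Subtype.ext ?_⟩⟩
    obtain ⟨a, ha⟩ := a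
    obtain ⟨b, hb⟩ := b
    cases a with
    | sr i => exact absurd ha (h i)
    | r i => cases b with
      | sr j => exact absurd hb (h j)
      | r j => show DihedralGroup.r i * DihedralGroup.r j = DihedralGroup.r j * DihedralGroup.r i
               rw [DihedralGroup.r_mul_r, DihedralGroup.r_mul_r, add_comm]
  have hu : IsUnit (2 : ZMod k) := by
    simpa using (ZMod.isUnit_iff_coprime 2 k).2 (Nat.coprime_two_left.2 hk)
  obtain ⟨u, hu⟩ := hu.exists_left_inv
  have hsr : ∀ j, DihedralGroup.sr j ∈ Y := fun j => by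
    have := Normal.conj_mem inferInstance _ hi (DihedralGroup.r ((i - j) * u))
    simp only [DihedralGroup.inv_r, DihedralGroup.r_mul_sr, DihedralGroup.sr_mul_r] at this
    convert this using 2
    linear_combination (i - j) * hu
  refine eq_top_iff.2 fun a _ => ?_
  cases a with
  | sr j => exact hsr j
  | r j => rw [show DihedralGroup.r j = DihedralGroup.sr 0 * DihedralGroup.sr j by simp]
           exact mul_mem (hsr 0) (hsr j)

theorem selfNorm {n : ℕ} (hn : 2 ≤ n) (hr : (2 ^ n - 1).Prime) (hq : Nat.card F = 2 ^ n) : SelfNorm (PSL2 F) := by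
  classical
  haveI : Fact (Nat.Prime 2) := ⟨Nat.prime_two⟩
  intro X hX
  have h4 : 4 ≤ 2 ^ n := le_trans (by norm_num) (Nat.pow_le_pow_right two_pos hn)
  haveI : IsSimpleGroup (PSL2 F) := CfsgLib.Linear.PSLTwo.isSimple (by rw [hq]; exact h4)
  set N := normalizer (X : Set (PSL2 F))
  by_cases hN : N = ⊤
  · haveI : X.Normal := normalizer_eq_top_iff.1 hN
    rcases IsSimpleGroup.eq_bot_or_eq_top_of_normal X inferInstance with h | h
    · exact absurd (h ▸ inferInstance) hX
    · rw [hN, h]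
  have hXN : X ≤ N := le_normalizer
  refine le_antisymm ?_ hXN
  rcases CfsgLib.Linear.PSLTwo.proper_cases 2 N hN with ⟨P, -, hP⟩ | ⟨hc, -⟩ | ⟨k, -, hk2, -, -, ⟨φ⟩⟩ |
    ⟨h5, -⟩ | ⟨h5, -⟩ | ⟨h2, -⟩ | ⟨f, m, hf, hm, hfm, ⟨hc, -⟩ | ⟨h2, -⟩⟩
  · -- inside a Borel subgroup
    set B := normalizer ((P : Subgroup (PSL2 F)) : Set (PSL2 F))
    have hPc := card_sylow_two hq P
    have hBc : Nat.card B = 2 ^ n * (2 ^ n - 1) := by
      rw [CfsgLib.Linear.PSLTwo.card_normalizer,
        CfsgLib.Linear.PSLTwo.gcd_eq_one (by rw [hq]; exact (even_two : Even 2).pow_of_ne_zero (by omega)), Nat.div_one, hq]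
    haveI hPcomm : IsMulCommutative (P : Subgroup (PSL2 F)) := by
      haveI := (nontrivial_iff_ne_bot (P : Subgroup (PSL2 F))).2 fun h => by
        rw [h, card_bot] at hPc; omega
      haveI := P.2.center_nontrivial
      obtain ⟨z, hz⟩ := exists_ne (1 : center (P : Subgroup (PSL2 F)))
      exact ⟨⟨fun a b => Subtype.ext (psl_ct (b := ((z : (P : Subgroup (PSL2 F))) : PSL2 F))
        (fun h => hz (Subtype.ext (Subtype.ext h)))
        (congrArg Subtype.val (mem_center_iff.1 z.2 a)) (congrArg Subtype.val (mem_center_iff.1 z.2 b)).symm).eq⟩⟩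
    have hXB : X ≤ B := hXN.trans hP
    have h2P : ∀ a ∈ B, (∃ j, orderOf a = 2 ^ j) → a ∈ (P : Subgroup (PSL2 F)) := fun a ha ⟨j, hj⟩ => by
      have := P.3 ((IsPGroup.of_card (n := j) (by rw [Nat.card_zpowers, hj]) :
        IsPGroup 2 (zpowers a)).to_sup_of_normal_right' P.2 (zpowers_le.2 ha)) le_sup_right
      exact this ▸ mem_sup_left (mem_zpowers a)
    obtain ⟨c, hcX, hc⟩ : ∃ c ∈ X, orderOf c = 2 ^ n - 1 := by
      haveI := Fact.mk hr
      have hd : 2 ^ n - 1 ∣ Nat.card X := by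
        by_contra h
        have h1 : Nat.card X ∣ 2 ^ n := (hr.coprime_iff_not_dvd.2 h).symm.dvd_of_dvd_mul_right
          (hBc ▸ card_dvd_of_le hXB)
        obtain ⟨j, -, hj⟩ := (Nat.dvd_prime_pow Nat.prime_two).1 h1
        exact hX (comm_of_le (fun a ha => h2P a (hXB ha) (by
          obtain ⟨i, hi⟩ := (IsPGroup.of_card hj).exists_orderOf_eq_pow ⟨a, ha⟩
          exact ⟨i, by rwa [orderOf_mk] at hi⟩) : X ≤ (P : Subgroup (PSL2 F))))
      obtain ⟨c, hc⟩ := exists_prime_orderOf_dvd_card' (G := X) (2 ^ n - 1) hd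
      exact ⟨c, c.2, by rwa [Subgroup.orderOf_coe]⟩
    obtain ⟨z, hzX, hz⟩ : ∃ z ∈ X, orderOf z = 2 := by
      have hd : 2 ∣ Nat.card X := by
        by_contra h
        have h1 : Nat.card X ∣ 2 ^ n - 1 := ((Nat.prime_two.coprime_iff_not_dvd.2 h).symm.pow_right n).dvd_of_dvd_mul_left
          (hBc ▸ card_dvd_of_le hXB)
        rcases (Nat.dvd_prime hr).1 h1 with h | h
        · exact hX (by rw [eq_bot_of_card_eq X h]; infer_instance)
        · haveI := Fact.mk hr
          haveI := isCyclic_of_prime_card h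
          exact hX ⟨⟨fun a b => by letI := IsCyclic.commGroup (α := X); exact mul_comm a b⟩⟩
      obtain ⟨c, hc⟩ := exists_prime_orderOf_dvd_card' (G := X) 2 hd
      exact ⟨c, c.2, by rwa [Subgroup.orderOf_coe]⟩
    have hzP : z ∈ (P : Subgroup (PSL2 F)) := h2P z (hXB hzX) ⟨1, by rw [hz, pow_one]⟩
    have hz1 : z ≠ 1 := fun h => by rw [h, orderOf_one] at hz; omega
    have hcB : c ∈ B := hXB hcX
    have hBgen : B ≤ (P : Subgroup (PSL2 F)) ⊔ zpowers c := by
      have hle : (P : Subgroup (PSL2 F)) ⊔ zpowers c ≤ B := sup_le le_normalizer (zpowers_le.2 hcB)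
      refine (eq_of_le_of_card_ge hle (Nat.le_of_dvd Nat.card_pos ?_)).ge
      rw [hBc]
      refine Nat.Coprime.mul_dvd_of_dvd_of_dvd ?_ (hPc ▸ card_dvd_of_le le_sup_left) ?_
      · refine Nat.Coprime.pow_left n ((Nat.coprime_primes Nat.prime_two hr).2 (by omega))
      · rw [← hc, ← Nat.card_zpowers]; exact card_dvd_of_le le_sup_right
    have hnc : ¬ Commute c z := fun h => by
      refine hX (comm_of_le (L := centralizer ({z} : Set (PSL2 F))) (hL := ⟨⟨fun a b => Subtype.ext
        (psl_ct hz1 (mem_centralizer_singleton_iff.1 a.2) (mem_centralizer_singleton_iff.1 b.2).symm).eq⟩⟩)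
        ((hXB.trans hBgen).trans (sup_le (fun a ha => mem_centralizer_singleton_iff.2 (commute_of_mem ha hzP).eq)
          (zpowers_le.2 (mem_centralizer_singleton_iff.2 h.eq)))))
    -- the conjugates of `z` under `c` fill `P`
    let ι : Option (Fin (2 ^ n - 1)) → ↥(X ⊓ (P : Subgroup (PSL2 F))) := fun o => o.elim 1 fun j =>
      ⟨c ^ (j : ℕ) * z * (c ^ (j : ℕ))⁻¹, X.mul_mem (X.mul_mem (X.pow_mem hcX _) hzX) (X.inv_mem (X.pow_mem hcX _)),
        (mem_normalizer_iff.1 (pow_mem hcB _) z).1 hzP⟩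
    have hne : ∀ j : Fin (2 ^ n - 1), ι (some j) ≠ 1 := fun j h => hz1 (by
      have := congrArg Subtype.val h
      simpa [ι] using this)
    have key : ∀ i j : Fin (2 ^ n - 1), (i : ℕ) ≤ j → ι (some i) = ι (some j) → i = j := fun i j hij h => by
      by_contra hne'
      have h' : c ^ (i : ℕ) * z * (c ^ (i : ℕ))⁻¹ = c ^ (j : ℕ) * z * (c ^ (j : ℕ))⁻¹ := congrArg Subtype.val h
      rw [show (j : ℕ) = i + (j - i) by omega, pow_add, mul_inv_rev] at h'
      have h1 : Commute (c ^ ((j : ℕ) - i)) z := by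
        refine mul_inv_eq_iff_eq_mul.1 ?_
        calc c ^ ((j : ℕ) - i) * z * (c ^ ((j : ℕ) - i))⁻¹ = (c ^ (i : ℕ))⁻¹ * (c ^ (i : ℕ) * c ^ ((j : ℕ) - i) * z *
              ((c ^ ((j : ℕ) - i))⁻¹ * (c ^ (i : ℕ))⁻¹)) * c ^ (i : ℕ) := by group
          _ = z := by rw [← h']; group
      haveI := Fact.mk hr
      have hcop : (orderOf c).Coprime ((j : ℕ) - i) := by
        rw [hc]
        refine hr.coprime_iff_not_dvd.2 fun hd => ?_
        have hj := j.2
        have hlt : (i : ℕ) < j := lt_of_le_of_ne hij fun e => hne' (Fin.ext e)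
        have := Nat.le_of_dvd (by omega) hd
        omega
      obtain ⟨m, hm⟩ := exists_pow_eq_self_of_coprime hcop.symm
      exact hnc (hm ▸ h1.pow_left m)
    have hinj : Function.Injective ι := by
      rintro (_ | i) (_ | j) h
      · rfl
      · exact absurd h.symm (hne j)
      · exact absurd h (hne i)
      · rcases Nat.le_total (i : ℕ) j with hij | hij
        · exact congrArg some (key i j hij h)
        · exact congrArg some (key j i hij h.symm).symm
    have hcard := Nat.card_le_card_of_injective ι hinj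
    rw [Nat.card_eq_fintype_card (α := Option (Fin _)), Fintype.card_option, Fintype.card_fin] at hcard
    have hPX : (P : Subgroup (PSL2 F)) ≤ X := by
      refine (eq_of_le_of_card_ge inf_le_right ?_).ge.trans (inf_le_left : X ⊓ (P : Subgroup (PSL2 F)) ≤ X)
      rw [hPc]; omega
    exact hP.trans (hBgen.trans (sup_le hPX (zpowers_le.2 hcX)))
  · exact absurd (comm_of_le (hL := ⟨⟨fun a b => by letI := IsCyclic.commGroup (α := N); exact mul_comm a b⟩⟩) hXN) hX
  · haveI : (X.subgroupOf N).Normal := (normal_subgroupOf_iff_le_normalizer hXN).2 le_rfl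
    haveI : ((X.subgroupOf N).map φ.toMonoidHom).Normal := Normal.map inferInstance _ φ.surjective
    have hY : ¬ IsMulCommutative ↥((X.subgroupOf N).map φ.toMonoidHom) := fun h => hX ⟨⟨fun a b => by
      let e := (subgroupOfEquivOfLe hXN).symm.trans (equivMapOfInjective _ φ.toMonoidHom φ.injective)
      exact e.injective (by rw [map_mul, map_mul]; exact mul_comm' _ _)⟩⟩
    have htop := dihedral_top (Nat.odd_iff.2 (by omega)) _ hY
    intro a ha
    have h1 : φ ⟨a, ha⟩ ∈ (X.subgroupOf N).map φ.toMonoidHom := htop ▸ mem_top _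
    obtain ⟨y, hy, hye⟩ := h1
    exact mem_subgroupOf.1 (φ.injective hye ▸ hy)
  · omega
  · omega
  · exact absurd rfl h2
  · have hdiv : 2 ^ f - 1 ∣ 2 ^ n - 1 := by
      have h := Nat.sub_dvd_pow_sub_pow (2 ^ f) 1 m
      rwa [one_pow, ← hfm, hq] at h
    obtain rfl : f = 1 := by
      have hlt : 2 ^ f < 2 ^ n := by
        rw [← hq, hfm]
        calc 2 ^ f = (2 ^ f) ^ 1 := (pow_one _).symm
          _ < (2 ^ f) ^ m := Nat.pow_lt_pow_right (Nat.one_lt_two_pow (by omega)) (by omega)
      rcases (Nat.dvd_prime hr).1 hdiv with h | h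
      · by_contra hf1
        have : 2 ^ 2 ≤ 2 ^ f := Nat.pow_le_pow_right two_pos (by omega)
        omega
      · omega
    norm_num at hc
    have hd : Nat.card X ∣ 6 := hc ▸ card_dvd_of_le hXN
    refine (eq_of_le_of_card_ge hXN ?_).ge
    rw [hc]
    by_contra hlt
    have hX6 : Nat.card X ≤ 5 := by omega
    have h0 : 0 < Nat.card X := Nat.card_pos
    interval_cases h : Nat.card X <;> try omega
    · exact hX (by rw [eq_bot_of_card_eq X h]; infer_instance)
    · haveI := isCyclic_of_prime_card (p := 2) h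
      exact hX ⟨⟨fun a b => by letI := IsCyclic.commGroup (α := X); exact mul_comm a b⟩⟩
    · haveI : Fact (Nat.Prime 3) := ⟨Nat.prime_three⟩
      haveI := isCyclic_of_prime_card (p := 3) h
      exact hX ⟨⟨fun a b => by letI := IsCyclic.commGroup (α := X); exact mul_comm a b⟩⟩
  · exact absurd rfl h2

end Converse

end CfsgLib.SelfNormNonab
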