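import Cfsg.Agent.Transfer.Frobenius
import Mathlib.GroupTheory.Transfer
import Mathlib.GroupTheory.SpecificGroups.Cyclic

/-!
# Simple groups in which all nonabelian subgroups are self-normalising
-/

set_option autoImplicit false

namespace CfsgLib.SelfNormNonab

open Subgroup

universe u

variable {G : Type u} [Group G]

/-- Every nonabelian subgroup is self-normalising. -/
def SelfNorm (G : Type u) [Group G] : Prop :=
  ∀ H : Subgroup G, ¬ IsMulCommutative H → normalizer (H : Set G) = H

variable (hyp : SelfNorm G)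

theorem comm_of_le {K L : Subgroup G} (h : K ≤ L) [hL : IsMulCommutative L] : IsMulCommutative K :=
  ⟨⟨fun a b => Subtype.ext (congrArg Subtype.val (mul_comm' (⟨a, h a.2⟩ : L) ⟨b, h b.2⟩) :)⟩⟩

include hyp in
theorem comm_of_normal {K L : Subgroup G} (hKL : K ≤ L) (hn : L ≤ normalizer (K : Set G)) (hne : K ≠ L) :
    IsMulCommutative K := by
  by_contra h
  exact hne (le_antisymm hKL (hn.trans (hyp K h).le))

include hyp in
theorem mem_of_commute {K : Subgroup G} (hK : ¬ IsMulCommutative K) {x : G} (hx : ∀ k ∈ K, Commute x k) :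
    x ∈ K :=
  (hyp K hK).le (centralizer_le_normalizer _ (mem_centralizer_iff.2 fun k hk => (hx k hk).eq.symm))

theorem commute_of_mem {K : Subgroup G} [IsMulCommutative K] {a b : G} (ha : a ∈ K) (hb : b ∈ K) :
    Commute a b :=
  congrArg Subtype.val (mul_comm' (⟨a, ha⟩ : K) ⟨b, hb⟩)

variable [Finite G]

theorem not_hasNormalPComplement {p : ℕ} [Fact p.Prime] [IsSimpleGroup G] (hG : ¬ IsMulCommutative G)
    (hp : p ∣ Nat.card G) : ¬ Cfsg.HasNormalPComplement p G := by
  rintro ⟨P, N, hN, hc⟩
  rcases IsSimpleGroup.eq_bot_or_eq_top_of_normal N hN with h | h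
  · have hP : (P : Subgroup G) = ⊤ := isComplement'_bot_left.1 (h ▸ hc)
    have hpG : IsPGroup p G := (P.2 : IsPGroup p (P : Subgroup G)).of_equiv
      ((MulEquiv.subgroupCongr hP).trans topEquiv)
    haveI := hpG.isNilpotent
    exact hG ⟨⟨IsSimpleGroup.comm_iff_isSolvable.2 inferInstance⟩⟩
  · have hP : (P : Subgroup G) = ⊥ := isComplement'_top_left.1 (h ▸ hc)
    exact P.ne_bot_of_dvd_card hp hP

theorem not_le_centralizer {p : ℕ} [Fact p.Prime] [IsSimpleGroup G] (hG : ¬ IsMulCommutative G)
    (hp : p ∣ Nat.card G) (P : Sylow p G) :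
    ¬ normalizer ((P : Subgroup G) : Set G) ≤ centralizer ((P : Subgroup G) : Set G) := fun h =>
  not_hasNormalPComplement hG hp
    ⟨P, _, inferInstance, MonoidHom.ker_transferSylow_isComplement' P h⟩

include hyp in
theorem localCondition {p : ℕ} [Fact p.Prime] (hnc : ∀ P : Sylow p G, ¬ IsMulCommutative (P : Subgroup G)) :
    CfsgLib.Fusion.LocalCondition p G := by
  intro Q hQ g hg hgp
  by_cases hQc : IsMulCommutative Q
  swap
  · rw [hyp Q hQc] at hg
    obtain ⟨k, hk⟩ := hQ.exists_orderOf_eq_pow ⟨g, hg⟩ 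
    rw [orderOf_mk] at hk
    rw [hk] at hgp
    have hk0 : k = 0 := by
      by_contra hk0
      exact (Fact.out : p.Prime).ne_one (Nat.eq_one_of_dvd_coprimes hgp (dvd_pow_self p hk0) dvd_rfl)
    rw [hk0, pow_zero, orderOf_eq_one_iff] at hk
    subst hk
    exact one_mem _
  suffices H : ∀ n, ∀ R : Subgroup G, Nat.card G - Nat.card R = n → IsPGroup p R → IsMulCommutative R →
      g ∈ normalizer (R : Set G) → g ∈ centralizer (R : Set G) from H _ Q rfl hQ hQc hg
  intro n
  induction n using Nat.strong_induction_on with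
  | _ n ih =>
    intro R hn hR hRc hgR
    by_contra hgC
    have up : ∀ R' : Subgroup G, R < R' → IsPGroup p R' → IsMulCommutative R' →
        g ∈ normalizer (R' : Set G) → False := fun R' hlt h1 h2 h3 => by
      have hc := card_le_card_group R'
      have hc' : Nat.card R < Nat.card R' := (card_le_of_le hlt.le).lt_of_ne fun e =>
        hlt.ne (eq_of_le_of_card_ge hlt.le e.ge)
      exact hgC (centralizer_le hlt.le (ih _ (by omega) R' rfl h1 h2 h3))
    set L := normalizer (R : Set G) with hL
    obtain ⟨T⟩ : Nonempty (Sylow p L) := inferInstance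
    obtain ⟨P, hP⟩ := (T.2.map L.subtype).exists_le_sylow
    set R1 := (T : Subgroup L).map L.subtype with hR1
    have hR1L : R1 ≤ L := map_subtype_le _
    have hRR1 : R ≤ R1 := by
      have hn : (R.subgroupOf L).Normal :=
        (normal_subgroupOf_iff_le_normalizer le_normalizer).2 le_rfl
      have h1 : R.subgroupOf L ≤ (T : Subgroup L) :=
        (T.3 ((hR.of_equiv (subgroupOfEquivOfLe le_normalizer).symm).to_sup_of_normal_left T.2) le_sup_right).le.trans'
          le_sup_left
      calc R = (R.subgroupOf L).map L.subtype := (map_subgroupOf_eq_of_le le_normalizer).symm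
        _ ≤ R1 := map_mono h1
    have hPL : (P : Subgroup G) ⊓ L = R1 := le_antisymm (fun x hx => by
      have h1 : ((P : Subgroup G).subgroupOf L) = (T : Subgroup L) :=
        T.3 P.2.comap_subtype fun y hy => mem_subgroupOf.2 (hP (mem_map_of_mem _ hy))
      exact ⟨⟨x, hx.2⟩, h1 ▸ mem_subgroupOf.2 hx.1, rfl⟩) (le_inf hP hR1L)
    -- the centraliser of `R`
    have hCL : centralizer (R : Set G) ≤ L := centralizer_le_normalizer _
    have hLC : L ≤ normalizer (centralizer (R : Set G) : Set G) := fun x hx =>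
      mem_normalizer_iff_map_conj_eq.2 (eq_of_le_of_card_ge (by
        rintro _ ⟨c, hc, rfl⟩
        refine mem_centralizer_iff.2 fun r hr => ?_
        have h1 : x⁻¹ * r * x ∈ R := by
          have := (mem_normalizer_iff.1 (inv_mem hx) r).1 hr
          rwa [inv_inv] at this
        have h2 : x⁻¹ * r * x * c = c * (x⁻¹ * r * x) := mem_centralizer_iff.1 hc _ h1
        calc r * (x * c * x⁻¹) = x * (x⁻¹ * r * x * c) * x⁻¹ := by group
          _ = x * c * x⁻¹ * r := by rw [h2]; group)
        (card_map_of_injective (f := (MulAut.conj x).toMonoidHom) (MulAut.conj x).injective).ge)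
    have hCne : centralizer (R : Set G) ≠ L := fun e => hgC (e ▸ hgR)
    haveI hCc := comm_of_normal hyp hCL hLC hCne
    by_cases hP1 : (P : Subgroup G) ≤ L
    swap
    · have hR1c : IsMulCommutative R1 := by
        by_contra h
        have hlt : R1.subgroupOf (P : Subgroup G) < ⊤ := lt_top_iff_ne_top.2 fun e => hP1 (by
          have := subgroupOf_eq_top.1 e
          exact this.trans hR1L)
        haveI : Group.IsNilpotent (P : Subgroup G) := P.2.isNilpotent
        obtain ⟨x, hx, hx'⟩ := SetLike.exists_of_lt (normalizerCondition_of_isNilpotent _ hlt)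
        refine hx' (mem_subgroupOf.2 ((hyp R1 h).le ?_))
        have := le_normalizer_map (P : Subgroup G).subtype ⟨x, hx, rfl⟩
        rwa [map_subgroupOf_eq_of_le hP] at this
      haveI := hR1c
      rcases eq_or_lt_of_le hRR1 with e | hlt
      · -- the Sylow subgroup normalises only itself in `P`
        have hlt : R.subgroupOf (P : Subgroup G) < ⊤ := lt_top_iff_ne_top.2 fun h => hP1 (by
          have := subgroupOf_eq_top.1 h
          exact this.trans (e.le.trans hR1L))
        haveI : Group.IsNilpotent (P : Subgroup G) := P.2.isNilpotent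
        obtain ⟨x, hx, hx'⟩ := SetLike.exists_of_lt (normalizerCondition_of_isNilpotent _ hlt)
        refine hx' (mem_subgroupOf.2 ?_)
        have h1 := le_normalizer_map (P : Subgroup G).subtype ⟨x, hx, rfl⟩
        rw [map_subgroupOf_eq_of_le (e.le.trans hP)] at h1
        rw [e, ← hPL]
        exact ⟨x.2, h1⟩
      · have hR1C : R1 ≤ centralizer (R : Set G) := fun x hx =>
          mem_centralizer_iff.2 fun r hr => (commute_of_mem (hRR1 hr) hx).eq
        refine up R1 hlt (T.2.map _) hR1c (mem_normalizer_iff_map_conj_eq.2 (eq_of_le_of_card_ge ?_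
          (card_map_of_injective (f := (MulAut.conj g).toMonoidHom) (MulAut.conj g).injective).ge))
        rintro _ ⟨x, hx, rfl⟩
        have hxC : g * x * g⁻¹ ∈ centralizer (R : Set G) := (mem_normalizer_iff.1 (hLC hgR) x).1 (hR1C hx)
        -- the `p`-elements of the abelian group `C(R)` lie in its subgroup `R1`
        have hp : IsPGroup p (zpowers (g * x * g⁻¹) : Subgroup G) := by
          obtain ⟨k, hk⟩ := (T.2.map L.subtype).exists_orderOf_eq_pow ⟨x, hx⟩
          rw [orderOf_mk] at hk
          exact IsPGroup.of_card (n := k) (by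
            rw [Nat.card_zpowers, ← hk]
            exact orderOf_injective (MulAut.conj g).toMonoidHom (MulAut.conj g).injective x)
        have hnorm : zpowers (g * x * g⁻¹) ≤ normalizer (R1 : Set G) := zpowers_le.2
          (centralizer_le_normalizer _ (mem_centralizer_iff.2 fun r hr => (commute_of_mem (hR1C hr) hxC).eq))
        have hsup : IsPGroup p (R1 ⊔ zpowers (g * x * g⁻¹) : Subgroup G) :=
          (T.2.map L.subtype).to_sup_of_normal_left' hp hnorm
        have hle : R1 ⊔ zpowers (g * x * g⁻¹) ≤ L :=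
          sup_le hR1L (zpowers_le.2 (hCL hxC))
        have h1 : (R1 ⊔ zpowers (g * x * g⁻¹)).subgroupOf L = (T : Subgroup L) :=
          T.3 (hsup.of_equiv (subgroupOfEquivOfLe hle).symm) fun y hy =>
            mem_subgroupOf.2 (mem_sup_left (mem_map_of_mem _ hy))
        exact ⟨⟨_, hCL hxC⟩, h1 ▸ mem_subgroupOf.2 (mem_sup_right (mem_zpowers _)), rfl⟩
    -- `P` normalises `R`
    set R0 := (P : Subgroup G) ⊓ centralizer (R : Set G) with hR0
    have hR0c : IsMulCommutative R0 := comm_of_le (inf_le_right : R0 ≤ centralizer (R : Set G))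
    have hRR0 : R ≤ R0 := le_inf ((hRR1.trans hP) : R ≤ (P : Subgroup G)) fun x hx =>
      mem_centralizer_iff.2 fun r hr => (commute_of_mem hr hx).eq
    rcases eq_or_lt_of_le hRR0 with e | hlt
    swap
    · refine up R0 hlt (P.2.to_le inf_le_left) hR0c (mem_normalizer_iff_map_conj_eq.2 (eq_of_le_of_card_ge ?_
        (card_map_of_injective (f := (MulAut.conj g).toMonoidHom) (MulAut.conj g).injective).ge))
      rintro _ ⟨x, hx, rfl⟩
      have hxC : g * x * g⁻¹ ∈ centralizer (R : Set G) := (mem_normalizer_iff.1 (hLC hgR) x).1 hx.2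
      refine ⟨?_, hxC⟩
      obtain ⟨k, hk⟩ := P.2.exists_orderOf_eq_pow ⟨x, hx.1⟩
      rw [orderOf_mk] at hk
      have hp : IsPGroup p (zpowers (g * x * g⁻¹) : Subgroup G) := IsPGroup.of_card (n := k) (by
        rw [Nat.card_zpowers, ← hk]
        exact orderOf_injective (MulAut.conj g).toMonoidHom (MulAut.conj g).injective x)
      have hsup : IsPGroup p (R0 ⊔ zpowers (g * x * g⁻¹) : Subgroup G) :=
        (P.2.to_le inf_le_left).to_sup_of_normal_left' hp (zpowers_le.2 (centralizer_le_normalizer _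
          (mem_centralizer_iff.2 fun r hr => (commute_of_mem (K := centralizer (R : Set G)) hr.2 hxC).eq)))
      have hleC : R0 ⊔ zpowers (g * x * g⁻¹) ≤ centralizer (R : Set G) :=
        sup_le inf_le_right (zpowers_le.2 hxC)
      have hPn : (P : Subgroup G) ≤ normalizer (centralizer (R : Set G) : Set G) := hP1.trans hLC
      -- a normal `p`-subgroup of the abelian `C(R)` normalised by `P` lies in `P`
      obtain ⟨P', hP'⟩ := hsup.exists_le_sylow
      by_contra hout
      have hC0 : ∀ y ∈ centralizer (R : Set G), ∀ j, orderOf y = p ^ j → y ∈ (P : Subgroup G) := by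
        intro y hy j hj
        let Cp : Subgroup G :=
          { carrier := {z | z ∈ centralizer (R : Set G) ∧ ∃ i, z ^ p ^ i = 1}
            one_mem' := ⟨one_mem _, 0, one_pow _⟩
            mul_mem' := fun {a b} ha hb => ⟨mul_mem ha.1 hb.1, by
              obtain ⟨i, hi⟩ := ha.2
              obtain ⟨j, hj⟩ := hb.2
              refine ⟨i + j, ?_⟩
              rw [(commute_of_mem (K := centralizer (R : Set G)) ha.1 hb.1).mul_pow, pow_add, pow_mul, hi, one_pow, one_mul,
                mul_comm, pow_mul, hj, one_pow]⟩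
            inv_mem' := fun {a} ha => ⟨inv_mem ha.1, by
              obtain ⟨i, hi⟩ := ha.2
              exact ⟨i, by rw [inv_pow, hi, inv_one]⟩⟩ }
        have hCp : IsPGroup p Cp := fun z => by
          obtain ⟨i, hi⟩ := z.2.2
          exact ⟨i, Subtype.ext (by push_cast; exact hi)⟩
        have hPCp : (P : Subgroup G) ≤ normalizer (Cp : Set G) := fun a ha => by
          refine mem_normalizer_iff_map_conj_eq.2 (eq_of_le_of_card_ge ?_
            (card_map_of_injective (f := (MulAut.conj a).toMonoidHom) (MulAut.conj a).injective).ge)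
          rintro _ ⟨z, hz, rfl⟩
          obtain ⟨i, hi⟩ := hz.2
          exact ⟨(mem_normalizer_iff.1 (hPn ha) z).1 hz.1, i, by
            show (a * z * a⁻¹) ^ p ^ i = 1
            rw [conj_pow, hi, mul_one, mul_inv_cancel]⟩
        have := P.3 (hCp.to_sup_of_normal_left' P.2 hPCp) le_sup_right
        rw [← this]
        exact mem_sup_left ⟨hy, j, by rw [← hj, pow_orderOf_eq_one]⟩
      exact hout (hC0 _ hxC k (by
        rw [← hk]; exact orderOf_injective (MulAut.conj g).toMonoidHom (MulAut.conj g).injective x))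
    -- `R` is self-centralising in `P`, so `P` is cyclic over it
    obtain ⟨x, hxP, hxR⟩ : ∃ x ∈ (P : Subgroup G), x ∉ R := by
      by_contra h
      push Not at h
      haveI := hRc
      exact hnc P (comm_of_le (K := (P : Subgroup G)) (L := R) h)
    have hxn : x ∈ normalizer (R : Set G) := hP1 hxP
    have hgen : R ⊔ zpowers x = (P : Subgroup G) := by
      by_contra hne
      have hle : R ⊔ zpowers x ≤ (P : Subgroup G) := sup_le (hRR1.trans hP) (zpowers_le.2 hxP)
      haveI hc : IsMulCommutative ↥(R ⊔ zpowers x : Subgroup G) := by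
        by_contra h
        have hlt : (R ⊔ zpowers x).subgroupOf (P : Subgroup G) < ⊤ :=
          lt_top_iff_ne_top.2 fun h' => hne (le_antisymm hle (subgroupOf_eq_top.1 h'))
        haveI : Group.IsNilpotent (P : Subgroup G) := P.2.isNilpotent
        obtain ⟨y, hy, hy'⟩ := SetLike.exists_of_lt (normalizerCondition_of_isNilpotent _ hlt)
        refine hy' (mem_subgroupOf.2 ((hyp _ h).le ?_))
        have := le_normalizer_map (P : Subgroup G).subtype ⟨y, hy, rfl⟩
        rwa [map_subgroupOf_eq_of_le hle] at this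
      refine hxR (e ▸ ⟨hxP, mem_centralizer_iff.2 fun r hr => ?_⟩)
      exact (commute_of_mem (K := R ⊔ zpowers x) (mem_sup_left hr) (mem_sup_right (mem_zpowers x))).eq
    -- Burnside's criterion in `L / C(R)`
    set C' := (centralizer (R : Set G)).subgroupOf L with hC'
    haveI : C'.Normal := (normal_subgroupOf_iff_le_normalizer hCL).2 hLC
    set π := QuotientGroup.mk' C'
    set TL : Sylow p L := P.subtype hP1
    set Tb := TL.mapSurjective (QuotientGroup.mk'_surjective C')
    have hTb : ∀ a ∈ (Tb : Subgroup (L ⧸ C')), ∃ j : ℤ, a = π ⟨x, hP1 hxP⟩ ^ j := by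
      intro a ha
      rw [Sylow.coe_mapSurjective, Sylow.coe_subtype] at ha
      obtain ⟨y, hy, rfl⟩ := ha
      have hy' : (y : G) ∈ R ⊔ zpowers x := hgen.symm ▸ mem_subgroupOf.1 hy
      rw [← SetLike.mem_coe, coe_mul_of_right_le_normalizer_left R _ (zpowers_le.2 hxn)] at hy'
      obtain ⟨r, hr, w, hw, hrw⟩ := hy'
      obtain ⟨j, rfl⟩ := mem_zpowers_iff.1 hw
      refine ⟨j, ?_⟩
      rw [← map_zpow]
      refine (QuotientGroup.eq.2 (mem_subgroupOf.2 ?_)).symm
      push_cast
      rw [← hrw]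
      rw [show (x ^ j)⁻¹ * (r * x ^ j) = (x ^ j)⁻¹ * r * x ^ j by group]
      have hrC : r ∈ centralizer (R : Set G) := (e ▸ hr : r ∈ R0).2
      have h2 := (mem_normalizer_iff.1 (hLC (zpow_mem (hP1 hxP) (-j))) r).1 hrC
      rwa [zpow_neg, inv_inv] at h2
    haveI hTbc : IsMulCommutative (Tb : Subgroup (L ⧸ C')) := ⟨⟨fun a b => Subtype.ext (by
      obtain ⟨i, hi⟩ := hTb a a.2
      obtain ⟨j, hj⟩ := hTb b b.2
      push_cast
      rw [hi, hj, ← zpow_add, ← zpow_add, add_comm])⟩⟩
    have hburn : normalizer ((Tb : Subgroup (L ⧸ C')) : Set (L ⧸ C')) ≤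
        centralizer ((Tb : Subgroup (L ⧸ C')) : Set (L ⧸ C')) := by
      intro a ha
      obtain ⟨n, rfl⟩ := QuotientGroup.mk'_surjective C' a
      -- Frattini: `n` agrees modulo `C'` with an element normalising `P`
      set N1 := C' ⊔ (TL : Subgroup L) with hN1
      have hn1 : n ∈ normalizer (N1 : Set L) := by
        have hN : N1 = (Tb : Subgroup (L ⧸ C')).comap π := by
          rw [Sylow.coe_mapSurjective, comap_map_eq, QuotientGroup.ker_mk', sup_comm]
        rw [hN, ← comap_normalizer_eq_of_surjective _ (QuotientGroup.mk'_surjective C')]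
        exact ha
      have hle : (TL : Subgroup L) ≤ N1 := le_sup_right
      set T1 := TL.subtype hle
      have hT1 : ((MulAut.conj n • TL : Sylow p L) : Subgroup L) ≤ N1 := by
        rintro _ ⟨y, hy, rfl⟩
        exact (mem_normalizer_iff.1 hn1 y).1 (hle hy)
      obtain ⟨m, hm⟩ := MulAction.exists_smul_eq N1 T1 ((MulAut.conj n • TL : Sylow p L).subtype hT1)
      have hm' : (m : L) • TL = MulAut.conj n • TL :=
        Sylow.subtype_injective ((Sylow.smul_subtype hle m).symm.trans hm)
      have hmn : (m : L)⁻¹ * n ∈ normalizer ((TL : Subgroup L) : Set L) := by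
        refine Sylow.smul_eq_iff_mem_normalizer.1 ?_
        rw [mul_smul]
        have : (m : L) • TL = n • TL := hm'
        rw [← this, inv_smul_smul]
      have hmnP : ((m : L)⁻¹ * n : L) ∈ (TL : Subgroup L) := by
        rw [Sylow.coe_subtype] at hmn ⊢
        refine mem_subgroupOf.2 ((hyp _ (hnc P)).le ?_)
        have := le_normalizer_map L.subtype ⟨_, hmn, rfl⟩
        rwa [map_subgroupOf_eq_of_le hP1] at this
      have hn : n ∈ N1 := by
        rw [show n = (m : L) * ((m : L)⁻¹ * n) by group]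
        exact mul_mem m.2 (hle hmnP)
      have ha' : π n ∈ (Tb : Subgroup (L ⧸ C')) := by
        rw [Sylow.coe_mapSurjective]
        have : N1.map π = (TL : Subgroup L).map π := by
          rw [Subgroup.map_sup, (Subgroup.map_eq_bot_iff (H := C') (f := π)).2 (QuotientGroup.ker_mk' C').ge, bot_sup_eq]
        exact this ▸ mem_map_of_mem π hn
      exact mem_centralizer_iff.2 fun b hb =>
        congrArg Subtype.val (mul_comm' (⟨b, hb⟩ : (Tb : Subgroup (L ⧸ C'))) ⟨π n, ha'⟩)
    set τ := (MonoidHom.transferSylow Tb hburn).comp π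
    set M := τ.ker.map L.subtype
    have hgM : g ∈ M := by
      refine ⟨⟨g, hgR⟩, MonoidHom.mem_ker.2 (orderOf_eq_one_iff.1 ?_), rfl⟩
      obtain ⟨j, hj⟩ := Tb.2.exists_orderOf_eq_pow (τ ⟨g, hgR⟩)
      refine Nat.eq_one_of_dvd_coprimes (hgp.pow_right j) ?_ hj.dvd
      exact (orderOf_map_dvd τ ⟨g, hgR⟩).trans (orderOf_mk g hgR).dvd
    have hCM : centralizer (R : Set G) ≤ M := fun c hc => ⟨⟨c, hCL hc⟩, MonoidHom.mem_ker.2 (by
      show MonoidHom.transferSylow Tb hburn (π _) = 1
      rw [show π ⟨c, hCL hc⟩ = 1 from (QuotientGroup.eq_one_iff _).2 (mem_subgroupOf.2 hc), map_one]), rfl⟩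
    have hMne : M ≠ L := fun h => by
      have hk : τ.ker = ⊤ := by
        exact (map_injective L.subtype_injective) (h.trans (by rw [← MonoidHom.range_eq_map, range_subtype]))
      have h1 : (MonoidHom.transferSylow Tb hburn).ker = ⊤ := by
        refine eq_top_iff.2 fun a _ => ?_
        obtain ⟨n, rfl⟩ := QuotientGroup.mk'_surjective C' a
        exact (hk ▸ mem_top n : n ∈ τ.ker)
      have h2 := MonoidHom.ker_transferSylow_isComplement' Tb hburn
      rw [h1] at h2
      have h3 : (Tb : Subgroup (L ⧸ C')) = ⊥ := isComplement'_top_left.1 h2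
      refine hxR (e ▸ ⟨hxP, ?_⟩)
      have h4 : π ⟨x, hP1 hxP⟩ = 1 := by
        have : π ⟨x, hP1 hxP⟩ ∈ (Tb : Subgroup (L ⧸ C')) := by
          rw [Sylow.coe_mapSurjective, Sylow.coe_subtype]
          exact mem_map_of_mem π (mem_subgroupOf.2 hxP)
        rwa [h3, mem_bot] at this
      exact mem_subgroupOf.1 ((QuotientGroup.eq_one_iff _).1 h4)
    haveI := comm_of_normal hyp (K := M) (map_subtype_le _)
      (by
        rintro l hl
        refine mem_normalizer_iff_map_conj_eq.2 (eq_of_le_of_card_ge ?_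
          (card_map_of_injective (f := (MulAut.conj l).toMonoidHom) (MulAut.conj l).injective).ge)
        rintro _ ⟨_, ⟨y, hy, rfl⟩, rfl⟩
        exact ⟨_, Normal.conj_mem inferInstance y hy ⟨l, hl⟩, rfl⟩) hMne
    exact hgC (mem_centralizer_iff.2 fun r hr => (commute_of_mem (hCM (hRR0 hr).2) hgM).eq)

include hyp in
theorem sylow_comm [IsSimpleGroup G] (hG : ¬ IsMulCommutative G) {p : ℕ} [Fact p.Prime] (P : Sylow p G) :
    IsMulCommutative (P : Subgroup G) := by
  by_contra h
  have hall : ∀ Q : Sylow p G, ¬ IsMulCommutative (Q : Subgroup G) := fun Q hQ =>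
    h ⟨⟨fun a b => (Sylow.equiv P Q).injective (by rw [map_mul, map_mul]; exact mul_comm' _ _)⟩⟩
  have hp : p ∣ Nat.card G := by
    by_contra hp
    have : (P : Subgroup G) = ⊥ := by
      obtain ⟨k, hk⟩ := IsPGroup.iff_card.1 P.2
      refine Subgroup.eq_bot_of_card_eq _ ?_
      rcases Nat.eq_zero_or_pos k with h0 | h0
      · rw [hk, h0, pow_zero]
      · exact absurd ((hk ▸ dvd_pow_self p h0.ne').trans (card_subgroup_dvd_card _)) hp
    exact h (this ▸ inferInstance)
  exact not_hasNormalPComplement hG hp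
    (CfsgLib.Fusion.hasNormalPComplement_of_localCondition (localCondition hyp hall))

include hyp in
theorem centralizer_comm_prime [IsSimpleGroup G] (hG : ¬ IsMulCommutative G) {p : ℕ} [hp : Fact p.Prime]
    {x : G} (hx : orderOf x = p) : IsMulCommutative (centralizer ({x} : Set G)) := by
  by_contra hL
  set L := centralizer ({x} : Set G)
  obtain ⟨P, hP⟩ := (IsPGroup.of_card (n := 1) (by rw [Nat.card_zpowers, hx, pow_one]) :
    IsPGroup p (zpowers x)).exists_le_sylow
  have hxP : x ∈ (P : Subgroup G) := hP (mem_zpowers x)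
  haveI hPc := sylow_comm hyp hG P
  have hPL : (P : Subgroup G) ≤ L := fun a ha => mem_centralizer_singleton_iff.2 (commute_of_mem ha hxP).eq
  set T : Sylow p L := P.subtype hPL
  have hTmem : ∀ {a : L}, a ∈ (T : Subgroup L) ↔ (a : G) ∈ (P : Subgroup G) := fun {a} => by
    rw [Sylow.coe_subtype]; exact mem_subgroupOf
  haveI hTc : IsMulCommutative (T : Subgroup L) := ⟨⟨fun a b => Subtype.ext (Subtype.ext
    (commute_of_mem (hTmem.1 a.2) (hTmem.1 b.2)).eq)⟩⟩
  letI : CommGroup (T : Subgroup L) :=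
    { (inferInstance : Group (T : Subgroup L)) with mul_comm := mul_comm' }
  have hxL : x ∈ L := hPL hxP
  set τ : L →* (T : Subgroup L) := MonoidHom.transfer (MonoidHom.id (T : Subgroup L))
  set K := τ.ker.map L.subtype
  set m := (T : Subgroup L).index
  have hm : m.Coprime p := ((hp.out.coprime_iff_not_dvd.2 T.not_dvd_index)).symm
  have hxK : x ∉ K := by
    rintro ⟨y, hy, hyx⟩
    obtain rfl : y = ⟨x, hxL⟩ := Subtype.ext hyx
    have hc : ∀ a : L, Commute a ⟨x, hxL⟩ := fun a => Subtype.ext (mem_centralizer_singleton_iff.1 a.2)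
    have h2 := MonoidHom.transfer_eq_pow (MonoidHom.id (T : Subgroup L)) (⟨x, hxL⟩ : L) fun k g₀ _ => by
      rw [mul_assoc, ← ((hc g₀).pow_right k).eq, inv_mul_cancel_left]
    rw [show MonoidHom.transfer (MonoidHom.id (T : Subgroup L)) (⟨x, hxL⟩ : L) = τ ⟨x, hxL⟩ from rfl,
      MonoidHom.mem_ker.1 hy] at h2
    have h3 : x ^ m = 1 := (congrArg (fun a : (T : Subgroup L) => ((a : L) : G)) h2).symm
    have := Nat.eq_one_of_dvd_coprimes hm (orderOf_dvd_of_pow_eq_one h3) hx.dvd
    rw [hx] at this
    exact hp.out.ne_one this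
  haveI hKc : IsMulCommutative K := by
    by_contra h
    exact hxK (mem_of_commute hyp h fun k hk => (mem_centralizer_singleton_iff.1 (map_subtype_le _ hk)).symm)
  -- the normal Hall subgroup
  let O : Subgroup L :=
    { carrier := {k | k ∈ τ.ker ∧ k ^ m = 1}
      one_mem' := ⟨one_mem _, one_pow _⟩
      mul_mem' := fun {a b} ha hb => ⟨mul_mem ha.1 hb.1, by
        have : Commute a b := Subtype.ext (commute_of_mem (K := K) ⟨a, ha.1, rfl⟩ ⟨b, hb.1, rfl⟩).eq
        rw [this.mul_pow, ha.2, hb.2, one_mul]⟩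
      inv_mem' := fun {a} ha => ⟨inv_mem ha.1, by rw [inv_pow, ha.2, inv_one]⟩ }
  haveI hOn : O.Normal := ⟨fun k hk g => ⟨Normal.conj_mem inferInstance k hk.1 g, by
    rw [conj_pow, hk.2, mul_one, mul_inv_cancel]⟩⟩
  have hOp : ∀ l : L, (orderOf l).Coprime p → l ∈ O := fun l hl => by
    refine ⟨MonoidHom.mem_ker.2 (orderOf_eq_one_iff.1 ?_), orderOf_dvd_iff_pow_eq_one.1 ?_⟩
    · obtain ⟨j, hj⟩ := T.2.exists_orderOf_eq_pow (τ l)
      exact Nat.eq_one_of_dvd_coprimes (hl.pow_right j) (orderOf_map_dvd τ l) hj.dvd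
    · have h1 : orderOf l ∣ Nat.card (T : Subgroup L) * m := by
        rw [card_mul_index]; exact orderOf_dvd_natCard l
      obtain ⟨j, hj⟩ := IsPGroup.iff_card.1 T.2
      rw [hj] at h1
      exact (hl.pow_right j).dvd_of_dvd_mul_left h1
  have hOT : ∀ a ∈ O, a ∈ (T : Subgroup L) → a = 1 := fun a ha haT => by
    obtain ⟨j, hj⟩ := IsPGroup.iff_card.1 T.2
    exact orderOf_eq_one_iff.1 (Nat.eq_one_of_dvd_coprimes (hm.pow_right j) (orderOf_dvd_of_pow_eq_one ha.2)
      (hj ▸ orderOf_dvd_natCard _ haT))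
  have htop : O ⊔ (T : Subgroup L) = ⊤ := by
    refine index_eq_one.1 (Nat.eq_one_iff_not_exists_prime_dvd.2 fun r hr hdvd => ?_)
    haveI := Fact.mk hr
    by_cases hrp : r = p
    · subst hrp
      exact T.not_dvd_index (hdvd.trans (index_dvd_of_le le_sup_right))
    · obtain ⟨R⟩ : Nonempty (Sylow r L) := inferInstance
      refine R.not_dvd_index (hdvd.trans (index_dvd_of_le fun a ha => mem_sup_left (hOp a ?_)))
      obtain ⟨j, hj⟩ := R.2.exists_orderOf_eq_pow ⟨a, ha⟩
      rw [orderOf_mk] at hj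
      rw [hj]
      exact ((Nat.coprime_primes hr hp.out).2 hrp).pow_left j
  have hLcomm : (∀ s ∈ (T : Subgroup L), ∀ o ∈ O, Commute o s) → False := fun h => by
    refine hL ⟨⟨fun a b => ?_⟩⟩
    have ha : a ∈ O ⊔ (T : Subgroup L) := htop ▸ mem_top a
    have hb : b ∈ O ⊔ (T : Subgroup L) := htop ▸ mem_top b
    obtain ⟨o, ho, s, hs, rfl⟩ := mem_sup_of_normal_left.1 ha
    obtain ⟨o', ho', s', hs', rfl⟩ := mem_sup_of_normal_left.1 hb
    have h1 : Commute o o' := Subtype.ext (commute_of_mem (K := K) ⟨o, ho.1, rfl⟩ ⟨o', ho'.1, rfl⟩).eq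
    have h2 : Commute s s' := Subtype.ext (commute_of_mem (hTmem.1 hs) (hTmem.1 hs')).eq
    exact ((h1.mul_right (h s' hs' o ho)).mul_left ((h s hs o' ho').symm.mul_right h2)).eq
  obtain ⟨s, hsT, hs⟩ : ∃ s ∈ (T : Subgroup L), O ⊔ zpowers s = ⊤ := by
    by_contra hno
    push Not at hno
    refine hLcomm fun s hs o ho => ?_
    have hn : (O ⊔ zpowers s).Normal := by
      refine normalizer_eq_top_iff.1 (top_le_iff.1 ?_)
      rw [← htop]
      refine sup_le (le_sup_left.trans le_normalizer) fun a ha => ?_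
      refine mem_normalizer_iff_map_conj_eq.2 (eq_of_le_of_card_ge ?_
        (card_map_of_injective (f := (MulAut.conj a).toMonoidHom) (MulAut.conj a).injective).ge)
      rw [Subgroup.map_sup, MonoidHom.map_zpowers]
      refine sup_le ((?_ : _ ≤ O).trans le_sup_left) (zpowers_le.2 ?_)
      · rintro _ ⟨y, hy, rfl⟩; exact Normal.conj_mem inferInstance y hy a
      · have : Commute a s := Subtype.ext (commute_of_mem (hTmem.1 ha) (hTmem.1 hs)).eq
        show a * s * a⁻¹ ∈ O ⊔ zpowers s
        rw [this.eq, mul_inv_cancel_right]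
        exact mem_sup_right (mem_zpowers s)
    have hne : (O ⊔ zpowers s).map L.subtype ≠ L := fun h => hno s hs
      (map_injective L.subtype_injective (h.trans (by rw [← MonoidHom.range_eq_map, range_subtype])))
    haveI := comm_of_normal hyp (map_subtype_le _) (fun l hl => mem_normalizer_iff_map_conj_eq.2
      (eq_of_le_of_card_ge (by
        rintro _ ⟨_, ⟨y, hy, rfl⟩, rfl⟩
        exact ⟨_, hn.conj_mem y hy ⟨l, hl⟩, rfl⟩)
        (card_map_of_injective (f := (MulAut.conj l).toMonoidHom) (MulAut.conj l).injective).ge)) hne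
    exact Subtype.ext (commute_of_mem (K := (O ⊔ zpowers s).map L.subtype)
      (mem_map_of_mem L.subtype (mem_sup_left ho)) (mem_map_of_mem L.subtype (mem_sup_right (mem_zpowers s)))).eq
  have hcyc : ∀ a ∈ (P : Subgroup G), a ∈ zpowers (s : G) := fun a ha => by
    have h1 : (⟨a, hPL ha⟩ : L) ∈ O ⊔ zpowers s := hs ▸ mem_top _
    obtain ⟨o, ho, w, hw, he⟩ := mem_sup_of_normal_left.1 h1
    have hwT : w ∈ (T : Subgroup L) := zpowers_le.2 hsT hw
    have hoT : o ∈ (T : Subgroup L) := by
      rw [eq_mul_inv_of_mul_eq he]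
      exact mul_mem (hTmem.2 ha) (inv_mem hwT)
    rw [hOT o ho hoT, one_mul] at he
    obtain ⟨j, rfl⟩ := mem_zpowers_iff.1 hw
    exact mem_zpowers_iff.2 ⟨j, congrArg Subtype.val he⟩
  haveI : IsCyclic (P : Subgroup G) := ⟨⟨s, hTmem.1 hsT⟩, fun a => by
    obtain ⟨j, hj⟩ := mem_zpowers_iff.1 (hcyc a a.2)
    exact mem_zpowers_iff.2 ⟨j, Subtype.ext (by push_cast; exact hj)⟩⟩
  refine not_le_centralizer hG (hx ▸ orderOf_dvd_natCard x) P fun n hn => ?_
  have hnL : n ∈ L := by
    rw [← hyp L hL]
    have hxn : n * x * n⁻¹ ∈ zpowers x := by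
      have h1 : n * x * n⁻¹ ∈ (P : Subgroup G) := (mem_normalizer_iff.1 hn x).1 hxP
      classical
      letI := Fintype.ofFinite (P : Subgroup G)
      by_contra hout
      have hinj : Function.Injective (fun j : Option (Fin p) =>
          j.elim (⟨n * x * n⁻¹, h1⟩ : (P : Subgroup G)) fun j => ⟨x, hxP⟩ ^ (j : ℕ)) := by
        rintro (_ | i) (_ | j) h <;> simp only [Option.elim] at h
        · rfl
        · exact absurd (mem_zpowers_iff.2 ⟨(j : ℕ), by
            rw [zpow_natCast]; exact (congrArg Subtype.val h).symm⟩) hout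
        · exact absurd (mem_zpowers_iff.2 ⟨(i : ℕ), by
            rw [zpow_natCast]; exact congrArg Subtype.val h⟩) hout
        · have h' : x ^ (i : ℕ) = x ^ (j : ℕ) := congrArg Subtype.val h
          exact congrArg some (Fin.ext (pow_injOn_Iio_orderOf (by rw [hx]; exact i.2) (by rw [hx]; exact j.2) h'))
      have hxp : (⟨x, hxP⟩ : (P : Subgroup G)) ^ p = 1 :=
        Subtype.ext (by push_cast; rw [← hx, pow_orderOf_eq_one])
      have hle : (Finset.univ.map ⟨_, hinj⟩).card ≤ (Finset.univ.filter fun a : (P : Subgroup G) => a ^ p = 1).card := by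
        refine Finset.card_le_card fun a ha => ?_
        simp only [Finset.mem_map, Finset.mem_univ, true_and, Function.Embedding.coeFn_mk] at ha
        obtain ⟨j, rfl⟩ := ha
        simp only [Finset.mem_filter, Finset.mem_univ, true_and]
        rcases j with _ | j
        · refine Subtype.ext ?_
          show (n * x * n⁻¹) ^ p = 1
          rw [conj_pow, ← hx, pow_orderOf_eq_one, mul_one, mul_inv_cancel]
        · show ((⟨x, hxP⟩ : (P : Subgroup G)) ^ (j : ℕ)) ^ p = 1
          rw [← pow_mul, mul_comm, pow_mul, hxp, one_pow]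
      rw [Finset.card_map, Finset.card_univ, Fintype.card_option, Fintype.card_fin] at hle
      have := IsCyclic.card_pow_eq_one_le (α := (P : Subgroup G)) hp.out.pos
      omega
    refine mem_normalizer_iff_map_conj_eq.2 (eq_of_le_of_card_ge ?_
      (card_map_of_injective (f := (MulAut.conj n).toMonoidHom) (MulAut.conj n).injective).ge)
    rintro _ ⟨l, hl, rfl⟩
    obtain ⟨j, hj⟩ := mem_zpowers_iff.1 hxn
    have hlx : Commute l x := mem_centralizer_singleton_iff.1 hl
    have h2 : Commute (n * l * n⁻¹) (n * x * n⁻¹) := hlx.map (MulAut.conj n).toMonoidHom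
    refine mem_centralizer_singleton_iff.2 ?_
    have hzx : x ∈ zpowers (n * x * n⁻¹) := by
      refine (eq_of_le_of_card_ge (zpowers_le.2 hxn) ?_).ge (mem_zpowers x)
      rw [Nat.card_zpowers, Nat.card_zpowers]
      exact (orderOf_injective (MulAut.conj n).toMonoidHom (MulAut.conj n).injective x).ge
    obtain ⟨i, hi⟩ := mem_zpowers_iff.1 hzx
    show MulAut.conj n l * x = x * MulAut.conj n l
    rw [MulAut.conj_apply]
    exact ((hi ▸ h2.zpow_right i) : Commute (n * l * n⁻¹) x).eq
  have h1 : (⟨n, hnL⟩ : L) ∈ O ⊔ (T : Subgroup L) := htop ▸ mem_top _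
  obtain ⟨o, ho, w, hw, he⟩ := mem_sup_of_normal_left.1 h1
  refine mem_centralizer_iff.2 fun a ha => ?_
  have haT : (⟨a, hPL ha⟩ : L) ∈ (T : Subgroup L) := hTmem.2 ha
  have hwa : Commute w ⟨a, hPL ha⟩ := Subtype.ext (commute_of_mem (hTmem.1 hw) ha).eq
  have hoa : Commute o ⟨a, hPL ha⟩ := by
    have h2 : o * ⟨a, hPL ha⟩ * o⁻¹ * (⟨a, hPL ha⟩ : L)⁻¹ ∈ O := by
      rw [mul_assoc o, mul_assoc o]
      exact mul_mem ho (Normal.conj_mem inferInstance _ (inv_mem ho) _)
    have h3 : o * ⟨a, hPL ha⟩ * o⁻¹ * (⟨a, hPL ha⟩ : L)⁻¹ ∈ (T : Subgroup L) := by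
      refine mul_mem (hTmem.2 ?_) (inv_mem haT)
      have ho' : (o : G) = n * (w : G)⁻¹ := by
        rw [eq_mul_inv_iff_mul_eq]
        exact congrArg Subtype.val he
      push_cast
      rw [ho']
      refine (mem_normalizer_iff.1 (mul_mem hn (le_normalizer (inv_mem (hTmem.1 hw)))) a).1 ha
    have h4 := hOT _ h2 h3
    rw [mul_inv_eq_one, mul_inv_eq_iff_eq_mul] at h4
    exact h4
  exact (congrArg Subtype.val (he ▸ (hoa.mul_left hwa) : Commute (⟨n, hnL⟩ : L) ⟨a, hPL ha⟩).eq).symm

include hyp in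
theorem commute_transitive [IsSimpleGroup G] (hG : ¬ IsMulCommutative G) (a b c : G) (hb : b ≠ 1)
    (hab : Commute a b) (hbc : Commute b c) : Commute a c := by
  obtain ⟨p, hp, hpd⟩ := Nat.exists_prime_and_dvd (n := orderOf b) fun h => hb (orderOf_eq_one_iff.1 h)
  haveI := Fact.mk hp
  haveI := centralizer_comm_prime hyp hG (orderOf_pow_orderOf_div (orderOf_pos b).ne' hpd)
  exact commute_of_mem (K := centralizer ({b ^ (orderOf b / p)} : Set G))
    (mem_centralizer_singleton_iff.2 (hab.pow_right _).eq)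
    (mem_centralizer_singleton_iff.2 (hbc.symm.pow_right _).eq)

end CfsgLib.SelfNormNonab
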